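import Cfsg.Agent.H151.OC.HThree_m3
import Cfsg.Agent.H40.Ch.Data_m3
import Cfsg.Agent.H396.PC.MultSix
import Cfsg.Agent.Prune
set_option linter.all false
prune_inst 0x7f00000000000000000000000000000000000000000000000000000000000000000000000000000000000000000000000000000000000000000000000000000000000000000000000000000000000000003fffffffffffffffffffffffffffbeffbdffffffff
open scoped Cfsg.Agent.FastGrp

-- part: H992/MU/Six
section
/-!
# The exact braid relation of length six of the `μ`-elements; `MultOne` for every root group datum (helper992)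
-/

set_option autoImplicit false
set_option linter.unusedSectionVars false

namespace Cfsg.Agent.H992.MU

open CoxeterSystem Cfsg.Agent.ChevalleyStructure.CoxeterGeom Cfsg.Agent.Tits.Roots Cfsg.Agent.Tits.Core
  Cfsg.Agent.Tits.Exchange Cfsg.Agent.Nodes.Reps Cfsg.Agent.Nodes.BNOf Cfsg.Agent.Nodes.OppDec
  Cfsg.Agent.Nodes.MuSq
open scoped commutatorElement

variable {I W Y : Type*} [Fintype I] [DecidableEq I] [Group W] [Group Y] {M : CoxeterMatrix I}
  {cs : CoxeterSystem M W} {A : I → I → ℤ} {h : IsCartan M A} {p : ℕ} {T : Subgroup Y} {n : I → Y}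
  {X : (I → ℤ) → Subgroup Y}

/-! ### Roots of the plane -/

/-- `u α_i + v α_j` -/
def Ev (i j : I) (u v : ℤ) : I → ℤ := u • sr i + v • sr j

section Refl

variable {i j : I} {k l : ℤ}

end Refl

section Cls

variable {i j : I} (hij : i ≠ j) {k l : ℤ} (hk : k = -A i j) (hl : l = -A j i)

include hij

include hk hl

end Cls

section RG

variable (R : RGD cs h p T n X) {i j : I} (hij : i ≠ j) {k l : ℤ} (hk : k = -A i j) (hl : l = -A j i) (hkl : k * l = 3)
  (hk0 : 0 < k) (hl0 : 0 < l)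

include R hij hk hl hkl hk0 hl0

end RG

section Mult

open Cfsg.Agent.Characters Cfsg.Agent.H53.HC Cfsg.Agent.H641.Gow Cfsg.Agent.H148.GG
  Cfsg.Agent.Nodes.StabComb Cfsg.Agent.Nodes.Bruhat Cfsg.Agent.Nodes.LeviDec

variable [Finite W] (R : RGD cs h p T n X) {F : I → Type*} [∀ i, Field (F i)] [∀ i, Finite (F i)] (D : _root_.Cfsg.Agent.H148.GG.Adj T X F)
  [hp : Fact p.Prime] {φ : Y → Y} (hφ : Cfsg.Agent.H92.GG.Anti cs h T X φ)

include R D hφ

/-- **Multiplicity one from a root group datum (every type), coordinates and an anti-automorphism.** -/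
theorem multOne_gen_all [Finite Y]
    (hE : ∀ i, ∃ (e : Y) (he : e ∈ X (sr i)), D.x i ⟨e, he⟩ = Multiplicative.ofAdd 1 ∧ InvE D i e)
    (hU : ∀ i (e e' : Y) (he : e ∈ X (sr i)) (he' : e' ∈ X (sr i)), D.x i ⟨e, he⟩ = D.x i ⟨e', he'⟩ →
      InvE D i e → InvE D i e' → e = e') : Cfsg.Agent.H743.GG.MultOne cs h T X := by
  exact _root_.Cfsg.Agent.H396.PC.multOne_gen' R D hφ hE hU

end Mult

end Cfsg.Agent.H992.MU
end

-- part: H356/CY/MultU
section
/-!
# Multiplicity one for `PGU_{n+1}(q)`, `q` odd (S4829, helper356)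

* `invE_quot` : `InvE` in the adjoint quotient;
* `multOneU` : `MultOne` for the frame of `PGU`.
-/

set_option autoImplicit false
set_option linter.unusedSectionVars false
set_option linter.unusedSimpArgs false

namespace Cfsg.Agent.H356.CY

open CoxeterSystem Cfsg.Agent.ChevalleyStructure.CoxeterGeom Cfsg.Agent.Tits.Roots Cfsg.Agent.Tits.Core
  Cfsg.Agent.Nodes.Comb Cfsg.Agent.Nodes.Reps Cfsg.Agent.Nodes.BNOf Cfsg.Agent.Nodes.RGDLib
  Cfsg.Agent.Nodes.Bruhat Cfsg.Agent.H148.GG Cfsg.Agent.H356.AQ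

section

variable {I W G Y : Type*} [Fintype I] [DecidableEq I] [Group W] [Group G] [Group Y] {M : CoxeterMatrix I}
  {cs : CoxeterSystem M W} {A : I → I → ℤ} {h : IsCartan M A} {p : ℕ} {T : Subgroup G} {n : I → G}
  {X : (I → ℤ) → Subgroup G} {F : I → Type*} [∀ i, Field (F i)] {D : _root_.Cfsg.Agent.H148.GG.Adj T X F} {π : G →* Y}

theorem invE_quot [Finite G] (K : Ker D π) (R : RGD cs h p T n X) {i : I} {e : G} (he : e ∈ X (sr i)) :
    H992.MU.InvE (quotD K R) i (π e) ↔ H992.MU.InvE D i e := by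
  constructor
  · intro hI t ht
    have h1 := hI ⟨π t, Subgroup.mem_map_of_mem π t.2⟩ (by rw [quotD_a K R i t]; exact ht)
    have h2 : π ((t : G) * e * (t : G)⁻¹ * e) = 1 := by
      rw [map_mul, map_mul, map_mul, map_inv]
      have h3 : π (t : G) * π e * (π (t : G))⁻¹ = (π e)⁻¹ := h1
      rw [h3, inv_mul_cancel]
    have h4 : (t : G) * e * (t : G)⁻¹ ∈ X (sr i) := (mem_normalizer_iff_cj.2 (R.tor _ (isRoot_sr cs h i) t t.2)
      |> Subgroup.mem_normalizer_iff.1) e |>.1 he
    exact mul_eq_one_iff_eq_inv.1 (K.inj R ((X (sr i)).mul_mem h4 he) h2)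
  · rintro hI ⟨_, s, hs, rfl⟩ ht
    have hs' : s ∈ T := hs
    have e0 := quotD_a K R i ⟨s, hs'⟩ (Subgroup.mem_map_of_mem π hs')
    have h1 := hI ⟨s, hs'⟩ ((congrArg Units.val e0.symm).trans ht)
    show π s * π e * (π s)⁻¹ = (π e)⁻¹
    rw [← map_mul, ← map_inv, ← map_mul, ← map_inv]
    exact congrArg π h1

theorem quotD_x [Finite G] (K : Ker D π) (R : RGD cs h p T n X) {i : I} {e : G} (he : e ∈ X (sr i))
    (he' : π e ∈ (X (sr i)).map π) : (quotD K R).x i ⟨π e, he'⟩ = D.x i ⟨e, he⟩ := by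
  show D.x i ((eX K R i).symm ⟨π e, he'⟩) = _
  rw [eX_symm K R i he he']

end

section

open Matrix Cfsg Cfsg.Agent.H356.TA Cfsg.Agent.H356.TU Cfsg.Agent.LieClassical.HermBasic
  Cfsg.Agent.LieClassical.HermSiegel
open Cfsg.Agent.TitsThree Cfsg.Agent.TitsThree.Siegel Cfsg.Agent.TitsThree.SiegelGen
  Cfsg.Agent.TitsThree.WittFrame Cfsg.Agent.TitsThree.WBridge Cfsg.Agent.TitsThree.WittWeyl
  Cfsg.Agent.TitsThree.FrameCN Cfsg.Agent.TitsThree.KSideU Cfsg.Agent.TitsThree.KSideUDesc
open Cfsg.Agent.TitsThree.KSideA Cfsg.Agent.Nodes.RGDTypeA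
open Cfsg.Agent.Nodes.RGDAllP Cfsg.Agent.Nodes.WittU Cfsg.Agent.Nodes.OppDec
open Cfsg.Agent.Nodes.TypeC (isCartan)

variable {F : Type*} [Field F] [Fintype F] {q : ℕ} {hF : Fintype.card F = q ^ 2} {n : ℕ} (U : UB hF n)

/-- the coordinates are injective except for the last root group of the odd dimensional groups -/
theorem xU_injective {i : Fin ((n + 1) / 2)} (hi : (i : ℕ) + 1 < (n + 1) / 2 ∨ ¬ Even n) : Function.Injective (xU U i) := by
  rw [injective_iff_map_eq_one]
  intro u hu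
  have h0 := xU_eq_one U i u hu
  obtain ⟨u, s, hs, rfl⟩ := u
  have hs' : s ∈ U.XS (sr i) := hs
  have hu' : (iota s).1.1 (ix i) (iy i) = 0 := h0
  apply Subtype.ext
  change iota s = 1
  have triv : s.1 = 1 → iota s = 1 := fun h => by rw [show s = 1 from Subtype.ext h, map_one]
  by_cases hi' : (i : ℕ) + 1 < (n + 1) / 2
  · obtain ⟨t, ht⟩ := (UB.mem_XS_sr hi').1 hs'
    apply triv
    rw [ent_A hi' ht] at hu'
    rw [ht, hu']
    unfold mX
    rw [tv_zero, zero_pow (q_pos hF).ne', neg_zero, tv_zero, one_mul]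
  · have hn : ¬ Even n := hi.resolve_left hi'
    obtain ⟨ω, c, hc, hω, ht⟩ := (UB.mem_XS_sr' hi').1 hs'
    apply triv
    rw [ent_B hi' hn (hω hn) ht] at hu'
    rw [ht, hu', hω hn]
    unfold mZ
    rw [tv_zero, zero_pow (q_pos hF).ne', neg_zero, tv_zero, tv_zero, one_mul, one_mul]

/-- the last root group of the odd dimensional groups -/
theorem invE_iff {i : Fin ((n + 1) / 2)} (hi : ¬ (i : ℕ) + 1 < (n + 1) / 2) (hn : Even n) {s : SJ hF n}
    (hs : s ∈ U.XS (sr i)) {ω c : F} (hc : c + c ^ q = -(ω * ω ^ q)) (hsw : s.1 = mZ q (i, true) ω c) :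
    H992.MU.InvE (adjU U) i (iota s) ↔ c ^ q = c := by
  have hnE : ¬ Even n → ω = 0 := fun h => absurd hn h
  -- the inverse
  have hinv : ∀ {s' : SJ hF n} {c' : F}, s'.1 = mZ q (i, true) (-ω) c' → (s' = s⁻¹ ↔ c' = c ^ q) := by
    intro s' c' hs'
    rw [eq_inv_iff_mul_eq_one]
    have e1 : (s' * s).1 = mZ q (i, true) 0 (c' - c ^ q) := by
      change s'.1 * s.1 = _
      rw [hs', hsw, mZ_mul hF hn]
      congr 1
      · ring
      · rw [neg_pow_q hF]
        linear_combination hc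
    constructor
    · intro h1
      rw [h1] at e1
      have h2 := congrFun (congrFun (congrArg Subtype.val e1) (ix i)) (ix i).rev
      rw [mZ_mat hn, zero_pow (q_pos hF).ne', neg_zero] at h2
      simp only [Matrix.add_apply, single_apply', pos_true'] at h2
      have h3 : (ix i) ≠ (ix i).rev := (pos_lt_rev i).ne
      have h4 : ((1 : SJ hF n).1 : Matrix (Fin (n + 1)) (Fin (n + 1)) F) = 1 := rfl
      rw [show (((1 : SJ hF n).1 : _root_.Matrix.SpecialLinearGroup (Fin (n + 1)) F).1) = (1 : Matrix (Fin (n + 1)) (Fin (n + 1)) F)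
        from rfl, Matrix.one_apply_ne h3] at h2
      simp only [true_and, and_true, and_self, if_true, ite_self, zero_add] at h2
      exact sub_eq_zero.1 h2.symm
    · intro h1
      apply Subtype.ext
      rw [e1, h1, sub_self]
      unfold mZ
      rw [tv_zero, zero_pow (q_pos hF).ne', neg_zero, tv_zero, tv_zero, one_mul, one_mul]
      rfl
  -- the conjugate
  have hconj : ∀ t : ↥(TG hF n), (((adjU U).a i t : Ki hF n i) : F) = -1 →
      ∃ s' : SJ hF n, s'.1 = mZ q (i, true) (-ω) c ∧ (t : GJ hF n) * iota s * (t : GJ hF n)⁻¹ = iota s' := by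
    intro t ht
    have h1 : t.1.1.1 (ix i) (ix i) / t.1.1.1 (iy i) (iy i) = -1 := ht
    have hne := diag_ne t.2
    rw [div_eq_iff (hne _), iy_C hi hn, neg_one_mul] at h1
    have h2 := TG_unit t.2 (mi n)
    rw [mid_rev hn] at h2
    have h3 := TG_unit t.2 (ix i).rev
    rw [Fin.rev_rev, h1, neg_pow_q hF] at h3
    have h4 : t.1.1.1 (ix i).rev (ix i).rev = - t.1.1.1 (mi n) (mi n) := by
      have h5 : (t.1.1.1 (mi n) (mi n)) ^ q ≠ 0 := pow_ne_zero _ (hne _)
      apply mul_right_cancel₀ h5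
      linear_combination -h3 + h2
    obtain ⟨s', hs'⟩ := exists_mZ U (i, true) (ω := -ω) (c := c) (by
      rw [neg_pow_q hF, hc]; ring) (fun h => absurd hn h)
    refine ⟨s', hs', mZ_conj t.2 (i, true) hnE hsw ?_⟩
    rw [hs', pos_true', h4, h1]
    have := hne (mi n)
    congr 1 <;> field_simp
  constructor
  · intro hI
    obtain ⟨t, ht⟩ := exists_torus (hF := hF) (n := n) (fun j => -1)
    have ht' : (((adjU U).a i t : Ki hF n i) : F) = -1 := by
      have h1 : (adjU U).a i t = -1 := ht i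
      rw [h1]
      rfl
    obtain ⟨s', hs', h1⟩ := hconj t ht'
    have h2 := hI t (by
      apply Subtype.ext
      rw [ht']
      rfl)
    rw [h1, ← map_inv] at h2
    exact ((hinv hs').1 (iota_inj h2)).symm
  · intro h0 t ht
    have ht' : (((adjU U).a i t : Ki hF n i) : F) = -1 := by rw [ht]; rfl
    obtain ⟨s', hs', h1⟩ := hconj t ht'
    rw [h1, (hinv hs').2 h0.symm, map_inv]

variable {p : ℕ} [Fact p.Prime] [CharP F p]

/-- **multiplicity one for `PGU`, `q` odd** -/
theorem multOneU (hp2 : p ≠ 2) : H743.GG.MultOne (UB.cs n) (isCartan ((n + 1) / 2)) ((TG hF n).map (pgu hF n))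
    (fun x => (XG U x).map (pgu hF n)) := by
  have h2 : (2 : F) ≠ 0 := by
    intro h
    have h1 : p ∣ 2 := (CharP.cast_eq_zero_iff F p 2).1 (by exact_mod_cast h)
    exact hp2 ((Nat.prime_dvd_prime_iff_eq (Fact.out : p.Prime) Nat.prime_two).1 h1)
  obtain ⟨φ, -, hφ⟩ := exists_antiP U
  have hR := rgdG U (p := p)
  have hX : ∀ (i : Fin ((n + 1) / 2)) (t : GJ hF n), t ∈ TG hF n → ∀ e ∈ XG U (sr i), t * e * t⁻¹ ∈ XG U (sr i) :=
    fun i t ht e he => (mem_normalizer_iff_cj.2 (hR.tor _ (isRoot_sr _ _ i) t ht)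
      |> Subgroup.mem_normalizer_iff.1) e |>.1 he
  refine H992.MU.multOne_gen_all (rgdP U (p := p)) (adjP U p) hφ (fun i => ?_) ?_
  · -- existence
    obtain ⟨e, he, h3, h4⟩ : ∃ (e : GJ hF n) (he : e ∈ XG U (sr i)), (adjU U).x i ⟨e, he⟩ = Multiplicative.ofAdd 1 ∧
        H992.MU.InvE (adjU U) i e := by
      by_cases hi : (i : ℕ) + 1 < (n + 1) / 2 ∨ ¬ Even n
      · obtain ⟨u, hu⟩ := surj_xU U i (Multiplicative.ofAdd 1)
        refine ⟨u, u.2, hu, fun t ht => ?_⟩
        have h1 := (adjU U).act i t u (hX i t t.2 u u.2)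
        rw [ht, neg_one_mul] at h1
        have h5 : (⟨(t : GJ hF n) * (u : GJ hF n) * (t : GJ hF n)⁻¹, hX i t t.2 u u.2⟩ : ↥(XG U (sr i))) = u⁻¹ := by
          apply xU_injective U hi
          rw [map_inv]
          exact h1
        exact congrArg Subtype.val h5
      · push Not at hi
        obtain ⟨hi, hn⟩ := hi
        have hi' : ¬ (i : ℕ) + 1 < (n + 1) / 2 := by omega
        have h1q : ((2 : F)⁻¹) ^ q = (2 : F)⁻¹ := by
          have h5 : (2 : F) ^ q = 2 := by
            have : (1 + 1 : F) ^ q = 1 + 1 := by rw [add_pow_q hF, one_pow]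
            norm_num at this
            exact this
          rw [inv_pow, h5]
        have hc : -(2 : F)⁻¹ + (-(2 : F)⁻¹) ^ q = -((-1 : F) * (-1) ^ q) := by
          rw [neg_pow_q hF, h1q, neg_pow_q hF, one_pow]
          field_simp
          norm_num
        obtain ⟨s, hs⟩ := exists_mZ U (i, true) hc (fun h => absurd hn h)
        have hsX : s ∈ U.XS (sr i) := (UB.mem_XS_sr' hi').2 ⟨_, _, hc, fun h => absurd hn h, hs⟩
        refine ⟨iota s, ⟨s, hsX, rfl⟩, ?_, (invE_iff U hi' hn hsX hc hs).2 ?_⟩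
        · apply Multiplicative.toAdd.injective
          apply Subtype.ext
          change (iota s).1.1 (ix i) (iy i) / kap hF n i = 1
          rw [ent_C hi' hn hs, neg_pow_q hF, one_pow, _root_.neg_neg]
          unfold kap
          rw [if_neg (fun h => ((two_mul_iff i).1 h).2 hn), div_one]
        · rw [neg_pow_q hF, h1q]
    have h5 : pgu hF n e ∈ (XG U (sr i)).map (pgu hF n) := Subgroup.mem_map_of_mem _ he
    exact ⟨pgu hF n e, h5, (quotD_x (kerU U) hR he h5).trans h3, (invE_quot (kerU U) hR he).2 h4⟩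
  · -- uniqueness
    rintro i _ _ ⟨e, he, rfl⟩ ⟨e', he', rfl⟩ hx h3 h4
    have he1 : e ∈ XG U (sr i) := he
    have he2 : e' ∈ XG U (sr i) := he'
    have hx' : xU U i ⟨e, he1⟩ = xU U i ⟨e', he2⟩ :=
      (quotD_x (kerU U) hR he1 _).symm.trans (hx.trans (quotD_x (kerU U) hR he2 _))
    have h3' := (invE_quot (kerU U) hR he1).1 h3
    have h4' := (invE_quot (kerU U) hR he2).1 h4
    congr 1
    by_cases hi : (i : ℕ) + 1 < (n + 1) / 2 ∨ ¬ Even n
    · exact congrArg Subtype.val (xU_injective U hi hx')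
    · push Not at hi
      obtain ⟨hi, hn⟩ := hi
      have hi' : ¬ (i : ℕ) + 1 < (n + 1) / 2 := by omega
      obtain ⟨s, hs, rfl⟩ := (mem_XG U).1 he1
      obtain ⟨s', hs', rfl⟩ := (mem_XG U).1 he2
      obtain ⟨ω, c, hc, hω, hsw⟩ := (UB.mem_XS_sr' hi').1 hs
      obtain ⟨ω', c', hc', hω', hsw'⟩ := (UB.mem_XS_sr' hi').1 hs'
      have k1 := (invE_iff U hi' hn hs hc hsw).1 h3'
      have k2 := (invE_iff U hi' hn hs' hc' hsw').1 h4'
      have k3 := congrArg (fun z : Multiplicative (Ki hF n i) => ((Multiplicative.toAdd z : Ki hF n i) : F)) hx'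
      have k4 : (iota s).1.1 (ix i) (iy i) / kap hF n i = (iota s').1.1 (ix i) (iy i) / kap hF n i := k3
      rw [ent_C hi' hn hsw, ent_C hi' hn hsw', div_left_inj' (kap_ne hF n i), neg_inj] at k4
      have k5 : ω = ω' := by
        have := congrArg (fun z : F => z ^ q) k4
        simpa only [pow_q_pow_q hF] using this
      subst k5
      have k6 : c = c' := by
        rw [k1] at hc
        rw [k2] at hc'
        have : 2 * (c - c') = 0 := by linear_combination hc - hc'
        exact sub_eq_zero.1 ((mul_eq_zero.1 this).resolve_left h2)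
      subst k6
      congr 1
      exact Subtype.ext (hsw.trans hsw'.symm)

end

end Cfsg.Agent.H356.CY
end

private theorem dce_2693865c562c : _root_.True := by
  try have : _root_.True := by simp only [_root_.Cfsg.Agent.H992.MU.Ev.eq_1]
  exact _root_.True.intro
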